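import Cfsg.Agent.Trans.SylowIn
import Cfsg.Agent.Trans.Quasisimple
import Cfsg.Agent.Gold.Cm

/-! Split BN-pairs of rank one: an element centralising the normaliser of a Sylow subgroup. -/

set_option autoImplicit false

namespace Cfsg.Lib.R1Z

open Subgroup Cfsg.Lib.Trans Cfsg.Lib.Gold

variable {X : Type*} [Group X] {p m : ℕ} {K B U T : Subgroup X} {w h ζ z : X}

/-- A split BN-pair of rank one with a torus element acting on `Z(U)` as the fourth power map. -/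
structure Dat (p m : ℕ) (K B U : Subgroup X) (w h ζ : X) : Prop where
  BK : B ≤ K
  UB : U ≤ B
  wK : w ∈ K
  nU : ∀ b ∈ B, ∀ u ∈ U, b * u * b⁻¹ ∈ U
  pU : IsPGroup p U
  bru : ∀ g ∈ K, g ∉ B → ∃ u ∈ U, w⁻¹ * (u * g) ∈ B
  fr : ∀ u ∈ U, w⁻¹ * u * w ∈ B → u = 1
  cop : m.Coprime p
  tor : ∀ d ∈ B, w⁻¹ * d * w ∈ B → d ^ m = 1
  hB : h ∈ B
  hp : ∀ u ∈ U, (∀ v ∈ U, v * u = u * v) → h * u * h⁻¹ = u ^ 4
  ζU : ζ ∈ U
  ζc : ∀ v ∈ U, v * ζ = ζ * v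
  ζ1 : ζ ≠ 1
  fpf : ∀ d ∈ B, w⁻¹ * d * w ∈ B → d * ζ * d⁻¹ ≠ ζ → ∀ u ∈ U, d * u * d⁻¹ = u → u = 1
  gen : ∀ N ≤ K, K ≤ Ns N → U ≤ N → K ≤ N

theorem le_Ns [Finite X] {A : Subgroup X} (H : ∀ s ∈ T, ∀ c ∈ A, s * c * s⁻¹ ∈ A) : T ≤ Ns A :=
  fun s hs => mem_Ns_iff.2 (eq_of_le_of_card_ge (by
    rintro _ ⟨c, hc, rfl⟩; exact H s hs c hc) (card_cj _ _).ge)

theorem gen_of (hq : IsQuasisimple X) (h1 : U ≤ B) (h2 : ∀ u ∈ U, w⁻¹ * u * w ∈ B → u = 1)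
    (h3 : ζ ∈ U) (h4 : ζ ≠ 1) : ∀ N ≤ ⊤, ⊤ ≤ Ns N → U ≤ N → ⊤ ≤ N := fun N _ hN hU =>
  ((IsQuasisimple.eq_top_or_le_center hq N (normalizer_eq_top_iff.1 (top_le_iff.1 hN))).resolve_right
    fun hc => h4 (h2 ζ h3 (by
      rw [mul_assoc, ← mem_center_iff.1 (hc (hU h3)), inv_mul_cancel_left]; exact h1 h3))).ge

theorem cop_units {E : Type*} [Field E] [Fintype E] {n : ℕ} (hp : p.Prime)
    (hE : Fintype.card E = p ^ n) : (Nat.card Eˣ).Coprime p := by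
  rw [Nat.card_units, Nat.card_eq_fintype_card, Nat.coprime_comm, hp.coprime_iff_not_dvd]
  intro h1
  have h2 := Fintype.one_lt_card (α := E)
  have h3 := Nat.dvd_sub (hE ▸ dvd_pow_self p (n := n) (by rintro rfl; simp at hE; omega)) h1
  rw [Nat.sub_sub_self h2.le] at h3
  exact hp.one_lt.ne' (Nat.dvd_one.1 h3)

theorem two_ne {E : Type*} [Field E] [Fintype E] {n : ℕ} (hp : p.Prime) (h5 : 5 ≤ p)
    (hE : Fintype.card E = p ^ n) : (2 : E) ≠ 0 := fun h => by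
  have h1 := FiniteField.even_card_of_char_two (F := E) (by
    have := CharP.ringChar_of_prime_eq_zero Nat.prime_two (R := E) (by simpa using h); exact this)
  have := (hp.odd_of_ne_two (by omega)).pow (n := n)
  rw [← hE, Nat.odd_iff] at this
  omega

namespace Dat

variable (D : Dat p m K B U w h ζ)
include D

theorem nB {g : X} (hg : g ∈ K) (hn : ∀ u ∈ U, g⁻¹ * u * g ∈ U) : g ∈ B := by
  by_contra hc
  obtain ⟨u, hu, hb⟩ := D.bru g hg hc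
  have h1 := D.nU _ hb _ (hn _ (mul_mem (mul_mem (inv_mem hu) D.ζU) hu))
  exact D.ζ1 (D.fr ζ D.ζU (D.UB (by convert h1 using 1; group)))

theorem wB : w ∉ B := fun hw =>
  D.ζ1 (D.fr ζ D.ζU (mul_mem (mul_mem (inv_mem hw) (D.UB D.ζU)) hw))

theorem dec {b : X} (hb : b ∈ B) : ∃ u ∈ U, w⁻¹ * (u * b) * w ∈ B := by
  obtain ⟨u, hu, h1⟩ := D.bru (b * w) (mul_mem (D.BK hb) D.wK)
    fun h1 => D.wB ((B.mul_mem_cancel_left hb).1 h1)
  exact ⟨u, hu, by simpa [mul_assoc] using h1⟩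

omit D in
theorem map {Y : Type*} [Group Y] (D : Dat p m ⊤ B U w h ζ) (f : X →* Y) (hf : f.ker ≤ center X) :
    Dat p m f.range (B.map f) (U.map f) (f w) (f h) (f ζ) := by
  have k1 : f.ker ≤ B := fun c hc => D.nB trivial fun u hu => by
    rwa [mul_assoc, mem_center_iff.1 (hf hc), inv_mul_cancel_left]
  have k2 : ∀ x, f x ∈ B.map f ↔ x ∈ B := fun x => by rw [← mem_comap, comap_map_eq_self k1]
  have k3 : ∀ u ∈ U, ∀ v ∈ U, f u = f v → u = v := fun u hu v hv e => by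
    have : u * v⁻¹ ∈ f.ker := by rw [MonoidHom.mem_ker, map_mul, map_inv, e, mul_inv_cancel]
    refine mul_inv_eq_one.1 (D.fr _ (mul_mem hu (inv_mem hv)) ?_)
    rw [mul_assoc, ← mem_center_iff.1 (hf this), inv_mul_cancel_left]
    exact k1 this
  refine ⟨map_le_range f B, map_mono D.UB, ⟨w, rfl⟩, ?_, D.pU.map f, ?_, ?_, D.cop, ?_,
    ⟨h, D.hB, rfl⟩, ?_, ⟨ζ, D.ζU, rfl⟩, ?_,
    fun e => D.ζ1 (k3 _ D.ζU 1 (one_mem _) (by rw [e, map_one])), ?_, fun N h1 h2 h3 => ?_⟩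
  · rintro _ ⟨b, hb, rfl⟩ _ ⟨u, hu, rfl⟩
    exact ⟨_, D.nU b hb u hu, by simp⟩
  · rintro _ ⟨g, rfl⟩ hg
    obtain ⟨u, hu, h1⟩ := D.bru g trivial (mt (k2 g).2 hg)
    exact ⟨_, ⟨u, hu, rfl⟩, _, h1, by simp⟩
  · rintro _ ⟨u, hu, rfl⟩ h1
    rw [D.fr u hu ((k2 _).1 (by simpa using h1)), map_one]
  · rintro _ ⟨d, hd, rfl⟩ h1
    rw [← map_pow, D.tor d hd ((k2 _).1 (by simpa using h1)), map_one]
  · rintro _ ⟨u, hu, rfl⟩ h1
    rw [← map_pow, ← D.hp u hu fun v hv => k3 _ (mul_mem hv hu) _ (mul_mem hu hv)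
      (by simpa using h1 _ ⟨v, hv, rfl⟩)]
    simp
  · rintro _ ⟨v, hv, rfl⟩
    rw [← map_mul, D.ζc v hv, map_mul]
  · rintro _ ⟨d, hd, rfl⟩ h1 h2 _ ⟨u, hu, rfl⟩ h3
    rw [D.fpf d hd ((k2 _).1 (by simpa using h1)) (fun e => h2 (by simpa using congrArg f e)) u hu
      (k3 _ (D.nU d hd u hu) _ hu (by simpa using h3)), map_one]
  · rintro _ ⟨g, rfl⟩
    refine D.gen (N.comap f) le_top (fun x _ => mem_normalizer_iff.2 fun y => ?_)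
      (map_le_iff_le_comap.1 h3) (mem_top g)
    simpa using mem_normalizer_iff.1 (h2 ⟨x, rfl⟩) (f y)

variable [Finite X] [Fact p.Prime] [hK : K.Normal] (hT : IsSylowIn p T ⊤) (hU : U ≤ T)
include hT hU

theorem inf_eq : T ⊓ K = U := by
  by_contra hc
  obtain ⟨x, ⟨⟨h1, h2⟩, h3⟩, h4⟩ := SetLike.exists_of_lt (lt_inf_normalizer
    (hT.isPGroup.to_le inf_le_left) (lt_of_le_of_ne (le_inf hU (D.UB.trans D.BK)) (Ne.symm hc)))
  have h5 := D.nB h2 fun u hu => by simpa using (mem_normalizer_iff.1 (inv_mem h3) u).1 hu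
  obtain ⟨u, hu, h6⟩ := D.dec h5
  obtain ⟨k, hk⟩ := hT.isPGroup ⟨u * x, mul_mem (hU hu) h1⟩
  have h7 : u * x = 1 := by
    have := pow_gcd_eq_one.2 ⟨D.tor _ (mul_mem (D.UB hu) h5) h6, congrArg Subtype.val hk⟩
    rwa [(D.cop.pow_right k).gcd_eq_one, pow_one] at this
  exact h4 (eq_inv_of_mul_eq_one_right h7 ▸ inv_mem hu)

theorem TU {s u : X} (hs : s ∈ T) (hu : u ∈ U) : s * u * s⁻¹ ∈ U := by
  rw [← D.inf_eq hT hU]
  exact ⟨T.mul_mem (T.mul_mem hs (hU hu)) (T.inv_mem hs), hK.conj_mem _ (D.BK (D.UB hu)) s⟩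

theorem TB {s b : X} (hs : s ∈ T) (hb : b ∈ B) : s * b * s⁻¹ ∈ B :=
  D.nB (hK.conj_mem _ (D.BK hb) s) fun u hu => by
    have := D.TU hT hU hs (D.nU _ (inv_mem hb) _ (D.TU hT hU (inv_mem hs) hu))
    convert this using 1; group

theorem exists_b : ∃ b ∈ B, b ∈ Ns T ∧ b * ζ * b⁻¹ = ζ ^ 4 := by
  have zc : ∀ s : X, (∀ u ∈ U, s * u * s⁻¹ ∈ U) → (∀ u ∈ U, s⁻¹ * u * s⁻¹⁻¹ ∈ U) →
      ∀ u ∈ U ⊓ Cs U, s * u * s⁻¹ ∈ U ⊓ Cs U := fun s h1 h2 u hu =>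
    ⟨h1 u hu.1, mem_Cs.2 fun v hv => by
      have := mem_Cs.1 hu.2 _ (h2 v hv)
      calc v * (s * u * s⁻¹) = s * (s⁻¹ * v * s⁻¹⁻¹ * u) * s⁻¹ := by group
        _ = _ := by rw [this]; group⟩
  have zT : ∀ s ∈ T, ∀ u ∈ U ⊓ Cs U, s * u * s⁻¹ ∈ U ⊓ Cs U := fun s hs =>
    zc s (fun _ => D.TU hT hU hs) fun _ => D.TU hT hU (inv_mem hs)
  have p4 : ∀ s ∈ T, ∀ u ∈ U ⊓ Cs U, s * h * s⁻¹ * u * (s * h * s⁻¹)⁻¹ = u ^ 4 := fun s hs u hu => by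
    have h1 := zT _ (inv_mem hs) u hu
    have h2 := D.hp _ h1.1 (mem_Cs.1 h1.2)
    rw [conj_pow] at h2
    calc _ = s * (h * (s⁻¹ * u * s⁻¹⁻¹) * h⁻¹) * s⁻¹ := by group
      _ = _ := by rw [h2]; group
  have hn : T ≤ Ns (B ⊓ Cs (U ⊓ Cs U)) := le_Ns fun s hs c hc =>
    ⟨D.TB hT hU hs hc.1, mem_Cs.2 fun v hv => by
      have := mem_Cs.1 hc.2 _ (zT _ (inv_mem hs) v hv)
      calc v * (s * c * s⁻¹) = s * (s⁻¹ * v * s⁻¹⁻¹ * c) * s⁻¹ := by group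
        _ = _ := by rw [this]; group⟩
  obtain ⟨x, hx, h1⟩ := (hT.mono (K := B ⊓ Cs (U ⊓ Cs U) ⊔ T) le_sup_right le_top).exists_cj_le
    (Q := cj h T) (hT.isPGroup.map _) (by
      rintro _ ⟨s, hs, rfl⟩
      have k1 := D.TB hT hU hs D.hB
      have : h * (s * h * s⁻¹)⁻¹ ∈ B ⊓ Cs (U ⊓ Cs U) := ⟨B.mul_mem D.hB (B.inv_mem k1),
        mem_Cs.2 fun v hv => by
          have k2 := zc _ (D.nU _ (inv_mem k1)) (fun u hu => by simpa using D.nU _ k1 u hu) v hv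
          have k3 := (D.hp _ k2.1 (mem_Cs.1 k2.2)).trans (p4 s hs _ k2).symm
          calc v * (h * (s * h * s⁻¹)⁻¹) = s * h * s⁻¹ * ((s * h * s⁻¹)⁻¹ * v * (s * h * s⁻¹)⁻¹⁻¹) *
                (s * h * s⁻¹)⁻¹ * (h * (s * h * s⁻¹)⁻¹) := by group
            _ = _ := by rw [← k3]; group⟩
      convert mul_mem (mem_sup_left this) (mem_sup_right hs) using 1
      simp [mul_assoc])
  obtain ⟨c, hc, s, hs, rfl⟩ := (mem_sup_of_le_normalizer hn).1 hx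
  rw [← cj_mul] at h1
  have h2 : c * s * h ∈ Ns T := mem_Ns_iff.2 (eq_of_le_of_card_ge h1 (card_cj _ _).ge)
  have h3 : ζ ∈ U ⊓ Cs U := ⟨D.ζU, mem_Cs.2 D.ζc⟩
  refine ⟨c * (s * h * s⁻¹), mul_mem hc.1 (D.TB hT hU hs D.hB), ?_, ?_⟩
  · convert mul_mem h2 (le_normalizer (inv_mem hs)) using 1; group
  · calc _ = c * (s * h * s⁻¹ * ζ * (s * h * s⁻¹)⁻¹) * c⁻¹ := by group
      _ = _ := by rw [p4 s hs ζ h3, ← mem_Cs.1 hc.2 _ (pow_mem h3 4), mul_inv_cancel_right]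

variable (h5 : 5 ≤ p) (hz : z ∈ T) (hc : ∀ n ∈ Ns T, n * z = z * n)
include h5 hz hc

theorem fix_w : w⁻¹ * z * w * z⁻¹ ∈ B := by
  obtain ⟨b, hb, h1, h2⟩ := D.exists_b hT hU
  obtain ⟨u, hu, h3⟩ := D.dec hb
  have h4 := mul_mem (D.UB hu) hb
  have h6 : ∀ v ∈ U, u * b * v * (u * b)⁻¹ = v → v = 1 := D.fpf _ h4 h3 fun e => by
    have k1 : u * b * ζ * (u * b)⁻¹ = ζ ^ 4 :=
      calc _ = u * (b * ζ * b⁻¹) * u⁻¹ := by group
        _ = _ := by rw [h2, ← conj_pow, D.ζc u hu, mul_inv_cancel_right]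
    obtain ⟨k, hk⟩ := D.pU ⟨ζ, D.ζU⟩
    have k2 : ζ ^ 3 = 1 := mul_right_cancel (b := ζ) (by rw [← pow_succ, ← k1, e, one_mul])
    have := pow_gcd_eq_one.2 ⟨k2, congrArg Subtype.val hk⟩
    rw [(((Nat.coprime_primes Nat.prime_three Fact.out).2 (by omega)).pow_right k).gcd_eq_one,
      pow_one] at this
    exact D.ζ1 this
  obtain ⟨d, hd⟩ : ∃ d, d = u * b := ⟨_, rfl⟩
  rw [← hd] at h3 h4 h6
  have h7 : Function.Injective fun v : U =>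
      (⟨v * (d * (v : X)⁻¹ * d⁻¹), mul_mem v.2 (D.nU d h4 _ (inv_mem v.2))⟩ : U) := fun v v' e => by
    have e' : (v : X) * (d * (v : X)⁻¹ * d⁻¹) = v' * (d * (v' : X)⁻¹ * d⁻¹) := congrArg Subtype.val e
    refine Subtype.ext (inv_mul_eq_one.1 (h6 _ (mul_mem (inv_mem v'.2) v.2) ?_)).symm
    calc _ = (v' : X)⁻¹ * (v' * (d * (v' : X)⁻¹ * d⁻¹)) * (d * v * d⁻¹) := by group
      _ = _ := by rw [← e']; group
  have cU : ∀ v ∈ U, v * z = z * v := fun v hv => hc v (le_normalizer (hU hv))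
  obtain ⟨v, hv⟩ := Finite.surjective_of_injective h7 ⟨u⁻¹, inv_mem hu⟩
  have k1 : Commute z d := by
    have e : d = (v : X)⁻¹ * b * v := by
      have e' : (v : X) * (d * (v : X)⁻¹ * d⁻¹) = u⁻¹ := congrArg Subtype.val hv
      calc d = (v : X)⁻¹ * (v * (d * (v : X)⁻¹ * d⁻¹) * d) * v := by group
        _ = _ := by rw [e', hd]; group
    have c1 : Commute z v := (cU v v.2).symm
    rw [e]
    exact (c1.inv_right.mul_right (hc b h1).symm).mul_right c1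
  have k2 : z * w * z⁻¹ ∉ B := fun e => D.wB (by simpa [mul_assoc] using D.TB hT hU (inv_mem hz) e)
  obtain ⟨t, ht, k3⟩ := D.bru _ (hK.conj_mem _ D.wK z) k2
  have k4 := mul_mem (mul_mem (mul_mem k3 (D.TB hT hU hz h3)) (inv_mem k3)) (inv_mem h3)
  have k5 : t = 1 := h6 t ht (by
    have := D.fr _ (mul_mem ht (D.nU d h4 _ (inv_mem ht))) (by
      convert k4 using 1
      calc _ = w⁻¹ * t * d * t⁻¹ * d⁻¹ * w := by group
        _ = w⁻¹ * t * (z * d * z⁻¹) * t⁻¹ * d⁻¹ * w := by rw [k1.eq, mul_inv_cancel_right]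
        _ = _ := by group)
    calc _ = (t * (d * t⁻¹ * d⁻¹))⁻¹ * t := by group
      _ = _ := by rw [this, inv_one, one_mul])
  simpa [k5, mul_assoc] using k3

theorem cent0 : ∀ k ∈ K, z * k = k * z := by
  have cU : ∀ v ∈ U, v * z = z * v := fun v hv => hc v (le_normalizer (hU hv))
  have k1 : ∀ g ∈ K, g⁻¹ * z * g * z⁻¹ ∈ B := fun g hg => by
    by_cases h1 : g ∈ B
    · simpa [mul_assoc] using mul_mem (inv_mem h1) (D.TB hT hU hz h1)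
    obtain ⟨u, hu, h2⟩ := D.bru g hg h1
    have := mul_mem (mul_mem (inv_mem h2) (D.fix_w hT hU h5 hz hc)) (D.TB hT hU hz h2)
    convert this using 1
    calc _ = g⁻¹ * (u⁻¹ * (u * z)) * g * z⁻¹ := by group
      _ = _ := by rw [cU u hu]; group
  have k2 : ∀ g ∈ K, ∀ k ∈ K, k⁻¹ * (g⁻¹ * z * g * z⁻¹) * k ∈ B := fun g hg k hk => by
    convert mul_mem (k1 _ (mul_mem hg hk)) (inv_mem (k1 k hk)) using 1; group
  have k3 : ∀ g ∈ K, ∀ u ∈ U, g⁻¹ * z * g * u = u * (g⁻¹ * z * g) := fun g hg u hu => by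
    have h1 := D.fr _ (mul_mem (D.nU _ (k1 g hg) u hu) (inv_mem hu)) (by
      convert mul_mem (k2 g hg w D.wK)
        (inv_mem (k2 g hg _ (mul_mem (inv_mem (D.BK (D.UB hu))) D.wK))) using 1
      group)
    calc _ = g⁻¹ * z * g * z⁻¹ * (z * u) := by group
      _ = g⁻¹ * z * g * z⁻¹ * u * (g⁻¹ * z * g * z⁻¹)⁻¹ * u⁻¹ * (u * (g⁻¹ * z * g)) := by
        rw [← cU u hu]; group
      _ = _ := by rw [h1, one_mul]
  have k4 := D.gen (K ⊓ centralizer {y | ∃ g ∈ K, g⁻¹ * z * g = y}) inf_le_left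
    (le_Ns fun s hs c hc => ⟨hK.conj_mem _ hc.1 s, mem_centralizer_iff.2 (by
      rintro _ ⟨g, hg, rfl⟩
      have := mem_centralizer_iff.1 hc.2 _ ⟨_, mul_mem hg hs, rfl⟩
      calc _ = s * ((g * s)⁻¹ * z * (g * s) * c) * s⁻¹ := by group
        _ = _ := by rw [this]; group)⟩)
    fun u hu => ⟨D.BK (D.UB hu), mem_centralizer_iff.2 (by
      rintro _ ⟨g, hg, rfl⟩; exact k3 g hg u hu)⟩
  exact fun k hk => mem_centralizer_iff.1 (k4 hk).2 z ⟨1, one_mem _, by simp⟩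

omit hU in
theorem cent (hKT : K ⊔ T = ⊤) : z ∈ center X := by
  obtain ⟨x, -, hx⟩ := hT.exists_cj_le D.pU le_top
  have h1 := D.cent0 (z := x⁻¹ * z * x) (hT.cj_of_mem (mem_top x⁻¹))
    (fun u hu => mem_cj.2 (by simpa using hx ⟨u, hu, rfl⟩)) h5 (mem_cj.2 (by simpa [mul_assoc] using hz))
    fun n hn => by
      rw [← cj_Ns] at hn
      have := hc _ (mem_cj.1 hn)
      calc _ = x⁻¹ * (x⁻¹⁻¹ * n * x⁻¹ * z) * x := by group
        _ = _ := by rw [this]; group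
  have h2 : K ⊔ T ≤ C1 z := sup_le (fun k hk => mem_C1.2 (by
    have := h1 _ (hK.conj_mem k hk x⁻¹)
    calc _ = x * (x⁻¹ * k * x⁻¹⁻¹ * (x⁻¹ * z * x)) * x⁻¹ := by group
      _ = _ := by rw [← this]; group)) fun s hs => mem_C1.2 (hc s (le_normalizer hs))
  exact mem_center_iff.2 fun g => mem_C1.1 (h2 (hKT ▸ mem_top g))

end Dat

end Cfsg.Lib.R1Z
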